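import Mathlib
import Cfsg.Agent.FGS.Basic
import Cfsg.Agent.S4134
import Cfsg.Agent.S4035

/-! Class sizes `1, m, n, mn`: basic lemmas. -/

set_option autoImplicit false
set_option linter.unusedSectionVars false

namespace Cfsg.Agent.Cam4

open Subgroup Cfsg.Agent.FGS

variable {G : Type*} [Group G] [Finite G]

/-- centraliser of an element -/
abbrev C (g : G) : Subgroup G := centralizer ({g} : Set G)

/-- `g` is an `r`-element -/
def PE (r : ℕ) (g : G) : Prop := ∃ k : ℕ, orderOf g = r ^ k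

theorem mem_C {a b : G} : a ∈ C b ↔ Commute a b := by
  rw [mem_centralizer_singleton_iff]; rfl

theorem PE.cop {r s : ℕ} {a : G} (h : PE r a) (hrs : r.Coprime s) : (orderOf a).Coprime s := by
  obtain ⟨k, hk⟩ := h; rw [hk]; exact hrs.pow_left k

theorem PE.cop2 {r : ℕ} {a b : G} (h : PE r a) (hb : (orderOf b).Coprime r) :
    (orderOf a).Coprime (orderOf b) := h.cop hb.symm

theorem PE.conj {r : ℕ} {a : G} (h : PE r a) (g : G) : PE r (g * a * g⁻¹) := by
  obtain ⟨k, hk⟩ := h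
  exact ⟨k, by rw [← hk]; exact (MulAut.conj g).orderOf_eq a⟩

theorem PE.coe {r : ℕ} {H : Subgroup G} {a : H} : PE r (a : G) ↔ PE r a := by
  unfold PE; rw [Subgroup.orderOf_coe]

theorem PE.of_mem {r : ℕ} [Fact r.Prime] {P : Subgroup G} (hP : IsPGroup r P) {a : G} (ha : a ∈ P) :
    PE r a := exists_orderOf_eq_of_mem hP ha

theorem relIndex_eq_of_coprime {H K : Subgroup G} (h : H.index.Coprime K.index) :
    H.relIndex K = H.index := by
  have h1 : H.relIndex K * K.index = (H ⊓ K).index := by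
    rw [← inf_relIndex_right]; exact relIndex_mul_index inf_le_right
  have h2 : H.index ∣ H.relIndex K := by
    apply h.dvd_of_dvd_mul_right
    rw [h1]; exact index_dvd_of_le inf_le_left
  have h3 : H.relIndex K ≤ H.index := by
    rw [← relIndex_top_right]
    exact relIndex_le_of_le_right le_top (by rw [relIndex_top_right]; exact index_ne_zero_of_finite)
  exact le_antisymm h3 (Nat.le_of_dvd (Nat.pos_of_ne_zero index_ne_zero_of_finite) h2)

theorem cx_mul {a b : G} (hab : Commute a b) (h : (orderOf a).Coprime (orderOf b)) :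
    (C (a * b)).index = (C a).relIndex (C b) * (C b).index := by
  rw [C, centralizer_mul_of_coprime hab h, ← inf_relIndex_right]
  exact (relIndex_mul_index inf_le_right).symm

theorem mem_of_parts {g : G} (K : Subgroup G)
    (h : ∀ r : ℕ, r.Prime → ∀ a ∈ zpowers g, PE r a → a ∈ K) : g ∈ K := by
  refine mem_of_forall_prime K fun r hr => ?_
  have := Fact.mk hr
  obtain ⟨a, b, ha, -, rfl, hab, hk, hb⟩ := exists_pPart r g
  refine ⟨orderOf b, (Nat.Prime.coprime_iff_not_dvd hr).1 hb.symm, ?_⟩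
  rw [hab.mul_pow, pow_orderOf_eq_one, mul_one]
  exact K.pow_mem (h r hr a ha hk) _

theorem not_dvd_relIndex {s : ℕ} (hs : s.Prime) {H K : Subgroup G}
    (h : ∀ a ∈ K, PE s a → a ∈ H) : ¬ s ∣ H.relIndex K := by
  have := Fact.mk hs
  obtain ⟨P⟩ : Nonempty (Sylow s K) := inferInstance
  refine not_dvd_index_of_sylow_le P fun a ha => ?_
  exact h a a.2 (PE.coe.2 (PE.of_mem P.isPGroup' ha))

theorem not_dvd_index' {s : ℕ} (hs : s.Prime) {H : Subgroup G}
    (h : ∀ a, PE s a → a ∈ H) : ¬ s ∣ H.index := by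
  rw [← relIndex_top_right]; exact not_dvd_relIndex hs fun a _ => h a

/-- a subgroup of index prime to `r` in `K` contains a `K`-conjugate of each `r`-element -/
theorem exists_conj_mem {r : ℕ} (hr : r.Prime) {H K : Subgroup G} (h : ¬ r ∣ H.relIndex K)
    {a : G} (haK : a ∈ K) (ha : PE r a) : ∃ c ∈ K, c * a * c⁻¹ ∈ H := by
  have := Fact.mk hr
  obtain ⟨P, hP⟩ := exists_sylow_le_of_not_dvd_index (G := K) h
  obtain ⟨k, hk⟩ := (PE.coe (a := ⟨a, haK⟩)).1 ha
  obtain ⟨Q, hQ⟩ := exists_sylow_mem hk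
  obtain ⟨c, rfl⟩ := MulAction.exists_smul_eq K Q P
  refine ⟨c, c.2, ?_⟩
  have : c * ⟨a, haK⟩ * c⁻¹ ∈ ((c • Q : Sylow r K) : Subgroup K) := by
    rw [Sylow.coe_subgroup_smul, mem_conj_iff]
    have e : c⁻¹ * (c * ⟨a, haK⟩ * c⁻¹) * c = ⟨a, haK⟩ := by group
    rw [e]; exact hQ
  exact hP this

theorem mem_of_central {r : ℕ} (hr : r.Prime) {H K : Subgroup G} (h : ¬ r ∣ H.relIndex K)
    {a : G} (haK : a ∈ K) (ha : PE r a) (hc : K ≤ C a) : a ∈ H := by
  obtain ⟨c, hc1, hc2⟩ := exists_conj_mem hr h haK ha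
  have := (mem_C.1 (hc hc1)).eq
  rwa [this, mul_inv_cancel_right] at hc2

theorem mem_of_normal_cop {H : Subgroup G} [H.Normal] {b : G} (h : (orderOf b).Coprime H.index) :
    b ∈ H := by
  rw [← QuotientGroup.eq_one_iff, ← orderOf_eq_one_iff]
  have h1 : orderOf (b : G ⧸ H) ∣ orderOf b := orderOf_map_dvd (QuotientGroup.mk' H) b
  have h2 : orderOf (b : G ⧸ H) ∣ H.index := orderOf_dvd_natCard _
  exact Nat.eq_one_of_dvd_coprimes h h1 h2

/-- Camina's lemma in a usable form. -/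
theorem cam {r : ℕ} (hr : r.Prime) (h : ∀ x : G, (orderOf x).Coprime r → ¬ r ∣ (C x).index) :
    ∃ H : Subgroup G, (∃ k, H.index = r ^ k) ∧ (∀ b, b ∈ H ↔ (orderOf b).Coprime r) ∧
      ∀ a b : G, PE r a → b ∈ H → Commute a b := by
  have := Fact.mk hr
  obtain ⟨P⟩ : Nonempty (Sylow r G) := inferInstance
  obtain ⟨hP, H, hH, h1, h2, h3⟩ := S4035.result (fun x hx => by rw [ncard_carrier]; exact h x hx) P
  have hi : ∃ k, H.index = r ^ k := by
    have : H.index ∣ Nat.card P := by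
      rw [← relIndex_top_right, ← h3, relIndex_sup_right]
      exact index_dvd_card _
    obtain ⟨k, hk⟩ := IsPGroup.iff_card.1 P.isPGroup'
    rw [hk] at this
    obtain ⟨j, -, hj⟩ := (Nat.dvd_prime_pow hr).1 this
    exact ⟨j, hj⟩
  refine ⟨H, hi, fun b => ⟨fun hb => ?_, fun hb => ?_⟩, fun a b ha hb => ?_⟩
  · exact Nat.Coprime.coprime_dvd_left (Subgroup.orderOf_dvd_natCard H hb)
      ((Nat.Prime.coprime_iff_not_dvd hr).2 h1).symm
  · obtain ⟨k, hk⟩ := hi
    exact mem_of_normal_cop (by rw [hk]; exact hb.pow_right k)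
  · obtain ⟨k, hk⟩ := ha
    exact commute_of_normal_of_disjoint _ _ hP hH (disjoint_iff.2 h2) a b (mem_sylow_of_normal P hk) hb

/-- Ito's theorem relative to a prime. -/
theorem ito {r s n : ℕ} (hr : r.Prime) (hs : s.Prime) (hn : 1 < n) (hrn : ¬ r ∣ n)
    (h : ∀ x : G, (orderOf x).Coprime r → (C x).index = 1 ∨ (C x).index = n)
    {y : G} (hy : PE s y) (hyn : (C y).index = n) : ∃ b, n = s ^ b := by
  obtain ⟨H, ⟨k, hk⟩, hH, hc⟩ := cam hr (G := G) fun x hx hd => by
    rcases h x hx with h1 | h1 <;> rw [h1] at hd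
    · exact hr.one_lt.ne' (Nat.dvd_one.1 hd)
    · exact hrn hd
  have hcop : n.Coprime H.index := by
    rw [hk]; exact ((Nat.Prime.coprime_iff_not_dvd hr).2 hrn).symm.pow_right k
  by_cases hsr : s = r
  · subst hsr
    exfalso
    obtain ⟨t, ht, htn⟩ := Nat.exists_prime_and_dvd hn.ne'
    refine not_dvd_index' ht (H := C y) (fun a ha => ?_) (hyn ▸ htn)
    have : t ≠ s := fun e => hrn (e ▸ htn)
    exact mem_C.2 (hc y a hy ((hH a).2 (ha.cop ((Nat.coprime_primes ht hs).2 this)))).symm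
  have hyH : y ∈ H := (hH y).2 (hy.cop ((Nat.coprime_primes hs hr).2 hsr))
  have key : ∀ x : H, (C x).index = (C (x : G)).index := fun x => by
    rw [C, index_centralizer_subgroup]
    apply relIndex_eq_of_coprime
    rcases h x ((hH x).1 x.2) with h1 | h1 <;> rw [h1]
    · simp
    · exact hcop
  obtain ⟨q, hq, b, hb, h2⟩ := S4134.result (G := H) n hn
    (fun x => by rw [← C, key]; exact h x ((hH x).1 x.2)) ⟨⟨y, hyH⟩, by rw [← C, key]; exact hyn⟩
  by_cases hsq : s = q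
  · exact ⟨b, hsq ▸ hb⟩
  exfalso
  obtain ⟨Q⟩ : Nonempty (Sylow q H) := inferInstance
  obtain ⟨-, ⟨N, hN, h3, h4, h5⟩, -⟩ := h2 Q
  have hyN : (⟨y, hyH⟩ : H) ∈ N := by
    apply mem_of_normal_cop
    rw [h3.symm.index_eq_card]
    obtain ⟨j, hj⟩ := IsPGroup.iff_card.1 Q.isPGroup'
    rw [hj]
    exact ((PE.coe (a := ⟨y, hyH⟩)).1 hy).cop (((Nat.coprime_primes hs hq.out).2 hsq).pow_right j)
  have : (C (⟨y, hyH⟩ : H)).index = 1 := by
    rw [index_eq_one, eq_top_iff, ← h3.sup_eq_top]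
    refine sup_le (fun a ha => ?_) fun a ha => ?_
    · exact mem_C.2 (isMulCommutative_iff_forall.1 h4 a ha _ hyN)
    · exact mem_C.2 (h5 _ hyN a ha).symm
  rw [key] at this
  simp only at this
  omega

/-- the hypothesis -/
structure Hyp (G : Type*) [Group G] (m n : ℕ) : Prop where
  hm : 1 < m
  hn : 1 < n
  cop : m.Coprime n
  ty : ∀ g : G, (C g).index = 1 ∨ (C g).index = m ∨ (C g).index = n ∨ (C g).index = m * n
  exm : ∃ g : G, (C g).index = m
  exn : ∃ g : G, (C g).index = n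
  exmn : ∃ g : G, (C g).index = m * n

namespace Hyp

variable {m n : ℕ}

theorem symm (h : Hyp G m n) : Hyp G n m :=
  ⟨h.hn, h.hm, h.cop.symm, fun g => by have := h.ty g; rw [mul_comm n m]; tauto, h.exn, h.exm,
    by rw [mul_comm]; exact h.exmn⟩

theorem ndvd (h : Hyp G m n) {r : ℕ} (hr : r.Prime) (hrm : r ∣ m) : ¬ r ∣ n := fun hrn =>
  hr.one_lt.ne' (Nat.eq_one_of_dvd_coprimes h.cop hrm hrn)

theorem of_m_dvd (h : Hyp G m n) {g : G} (hd : m ∣ (C g).index) :
    (C g).index = m ∨ (C g).index = m * n := by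
  have := h.hm
  rcases h.ty g with h1 | h1 | h1 | h1
  · rw [h1] at hd; exact absurd (Nat.dvd_one.1 hd) (by omega)
  · exact Or.inl h1
  · rw [h1] at hd; exact absurd (Nat.eq_one_of_dvd_coprimes h.cop dvd_rfl hd) (by omega)
  · exact Or.inr h1

theorem of_dvd_m (h : Hyp G m n) {g : G} (hd : (C g).index ∣ m) :
    (C g).index = 1 ∨ (C g).index = m := by
  have := h.hn
  rcases h.ty g with h1 | h1 | h1 | h1
  · exact Or.inl h1
  · exact Or.inr h1
  · rw [h1] at hd; exact absurd (Nat.eq_one_of_dvd_coprimes h.cop hd dvd_rfl) (by omega)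
  · rw [h1] at hd
    exact absurd (Nat.eq_one_of_dvd_coprimes h.cop ((Dvd.intro_left _ rfl).trans hd) dvd_rfl) (by omega)

theorem rel_m (h : Hyp G m n) {x a : G} (hx : (C x).index = m) (hc : Commute a x)
    (ho : (orderOf a).Coprime (orderOf x)) : (C a).relIndex (C x) = 1 ∨ (C a).relIndex (C x) = n := by
  have h1 := cx_mul hc ho
  have := h.hm
  rw [hx] at h1
  rcases h.of_m_dvd (g := a * x) (h1 ▸ Dvd.intro_left _ rfl) with h2 | h2 <;> rw [h2] at h1
  · left; exact Nat.eq_of_mul_eq_mul_right (m := m) (by omega) (by omega)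
  · right; exact Nat.eq_of_mul_eq_mul_right (m := m) (by omega) (by rw [← h1, mul_comm])

theorem rel_mn (h : Hyp G m n) {z a : G} (hz : (C z).index = m * n) (hc : Commute a z)
    (ho : (orderOf a).Coprime (orderOf z)) : C z ≤ C a := by
  have h1 := cx_mul hc ho
  have := h.hm
  have := h.hn
  rw [hz] at h1
  rw [← relIndex_eq_one]
  have hpos : 0 < (C a).relIndex (C z) := Nat.pos_of_ne_zero index_ne_zero_of_finite
  rcases h.of_m_dvd (g := a * z) (h1 ▸ ⟨(C a).relIndex (C z) * n, by ring⟩) with h2 | h2 <;>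
    rw [h2] at h1
  · nlinarith [Nat.mul_le_mul hpos (le_refl (m * n))]
  · exact Nat.eq_of_mul_eq_mul_right (m := m * n) (by positivity) (by omega)

theorem ex_primary (h : Hyp G m n) : ∃ (r : ℕ) (x : G), r.Prime ∧ PE r x ∧ (C x).index = m := by
  obtain ⟨g, hg⟩ := h.exm
  by_contra hc
  push Not at hc
  have : g ∈ center G := mem_of_parts _ fun r hr a ha hra => by
    rw [← index_centralizer_eq_one_iff]
    exact (h.of_dvd_m (hg ▸ index_dvd_of_le (centralizer_le_of_mem_zpowers ha))).resolve_right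
      (hc r a hr hra)
  rw [← index_centralizer_eq_one_iff, hg] at this
  exact h.hm.ne' this

theorem ndvd_ix (h : Hyp G m n) {r : ℕ} (hr : r.Prime) (hm : ¬ r ∣ m) (hn : ¬ r ∣ n) (g : G) :
    ¬ r ∣ (C g).index := by
  rcases h.ty g with h1 | h1 | h1 | h1 <;> rw [h1]
  · exact fun hd => hr.one_lt.ne' (Nat.dvd_one.1 hd)
  · exact hm
  · exact hn
  · exact fun hd => (hr.dvd_mul.1 hd).elim hm hn

theorem central (h : Hyp G m n) {r : ℕ} (hr : r.Prime) (hm : ¬ r ∣ m) (hn : ¬ r ∣ n) {u : G}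
    (hu : PE r u) : u ∈ center G := by
  obtain ⟨H, -, hH, hc⟩ := cam hr (G := G) fun x _ => h.ndvd_ix hr hm hn x
  rw [← index_centralizer_eq_one_iff]
  by_contra h1
  obtain ⟨t, ht, htn⟩ := Nat.exists_prime_and_dvd h1
  have : t ≠ r := fun e => h.ndvd_ix hr hm hn u (e ▸ htn)
  exact not_dvd_index' ht (fun a ha => mem_C.2
    (hc u a hu ((hH a).2 (ha.cop ((Nat.coprime_primes ht hr).2 this)))).symm) htn

theorem rel_xy (h : Hyp G m n) {x y : G} (hx : (C x).index = m) (hy : (C y).index = n) :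
    (C y).relIndex (C x) = n := by
  rw [relIndex_eq_of_coprime (by rw [hx, hy]; exact h.cop.symm), hy]

/-- case (a) -/
theorem caseA (h : Hyp G m n) {r s : ℕ} (hr : r.Prime) (hs : s.Prime) {x y : G} (hrx : PE r x)
    (hx : (C x).index = m) (hrm : r ∣ m) (hsy : PE s y) (hy : (C y).index = n) : ∃ b, n = s ^ b := by
  have hrn := h.ndvd hr hrm
  have hxy : x ∈ C y := mem_of_central hr (K := C x) (by rw [h.rel_xy hx hy]; exact hrn)
    (mem_C.2 rfl) hrx le_rfl
  have hyx : y ∈ C x := mem_C.2 (mem_C.1 hxy).symm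
  refine ito (G := C x) hr hs h.hn hrn (fun a ha => ?_) (y := ⟨y, hyx⟩) (PE.coe.1 hsy) ?_
  · rw [index_centralizer_subgroup]
    exact h.rel_m hx (mem_C.1 a.2) (hrx.cop2 (by rwa [Subgroup.orderOf_coe])).symm
  · rw [index_centralizer_subgroup]; exact h.rel_xy hx hy

end Hyp

end Cfsg.Agent.Cam4
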