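import Mathlib
import Cfsg.Agent.Cam4.A
import Cfsg.Agent.Core.Product

/-! Class sizes `1, m, n, mn`: the case (b), general part. -/

set_option autoImplicit false
set_option linter.unusedSectionVars false

namespace Cfsg.Agent.Cam4

open Subgroup Cfsg.Agent.FGS

variable {G : Type*} [Group G] [Finite G]

theorem le_of_index {H K : Subgroup G} (h : H ≤ K) (hi : H.index = K.index) : K ≤ H := by
  have h1 := relIndex_mul_index h
  rw [hi] at h1
  have : 0 < K.index := Nat.pos_of_ne_zero index_ne_zero_of_finite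
  rw [← relIndex_eq_one]
  exact Nat.eq_of_mul_eq_mul_right this (by rw [h1, one_mul])

theorem index_inf' (H K : Subgroup G) : (H ⊓ K).index = H.relIndex K * K.index := by
  rw [← inf_relIndex_right]; exact (relIndex_mul_index inf_le_right).symm

theorem conj_comm {e x a : G} (h : Commute (e * x * e⁻¹) a) : Commute (e⁻¹ * a * e) x := by
  have h1 : e * x * e⁻¹ * a = a * (e * x * e⁻¹) := h.eq
  show e⁻¹ * a * e * x = x * (e⁻¹ * a * e)
  calc e⁻¹ * a * e * x = e⁻¹ * (a * (e * x * e⁻¹)) * e := by group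
    _ = e⁻¹ * (e * x * e⁻¹ * a) * e := by rw [h1]
    _ = x * (e⁻¹ * a * e) := by group

theorem conj_fix {c a : G} (h : Commute (c * a * c⁻¹) c) : c * a * c⁻¹ = a := by
  have h1 : c * a * c⁻¹ * c = c * (c * a * c⁻¹) := h.eq
  rw [inv_mul_cancel_right] at h1
  exact (mul_left_cancel h1).symm

theorem transfer {r : ℕ} (hr : r.Prime) {Z0 K1 K2 : Subgroup G} (h1 : Z0 ≤ K1) (h2 : Z0 ≤ K2)
    (hc : ∀ z ∈ Z0, ∀ c ∈ K1, Commute z c) {k1 k2 : ℕ} (hi : K1.index * k1 = K2.index * k2)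
    (hk : ¬ r ∣ k1) {a : G} (ha : a ∈ K1) (hra : PE r a) (haZ : a ∉ Z0) :
    ∃ b ∈ K2, PE r b ∧ b ∉ Z0 := by
  have d1 : r ∣ Z0.relIndex K1 := by
    by_contra hd
    obtain ⟨c, hc1, hc2⟩ := exists_conj_mem hr hd ha hra
    exact haZ (conj_fix (hc _ hc2 c hc1) ▸ hc2)
  have e1 := relIndex_mul_index h1
  have e2 := relIndex_mul_index h2
  have p1 : 0 < K1.index := Nat.pos_of_ne_zero index_ne_zero_of_finite
  have e3 : Z0.relIndex K1 * k2 = Z0.relIndex K2 * k1 := by
    apply Nat.eq_of_mul_eq_mul_right p1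
    calc Z0.relIndex K1 * k2 * K1.index = Z0.relIndex K2 * (K2.index * k2) := by
          rw [← mul_assoc, e2, ← e1]; ring
      _ = _ := by rw [← hi]; ring
  have d2 : r ∣ Z0.relIndex K2 := ((hr.dvd_mul.1 (e3 ▸ d1.mul_right k2)).resolve_right hk)
  by_contra hn
  push Not at hn
  exact not_dvd_relIndex hr hn d2

/-- `g` centralises a noncentral `t`-element -/
def NC (t : ℕ) (g : G) : Prop := ∃ a ∈ C g, PE t a ∧ a ∉ center G

theorem NC.tr {t : ℕ} (ht : t.Prime) {g g' : G} {k1 k2 : ℕ}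
    (hi : (C g).index * k1 = (C g').index * k2) (hk : ¬ t ∣ k1) (h : NC t g) : NC t g' := by
  obtain ⟨a, h1, h2, h3⟩ := h
  exact transfer ht (center_le_centralizer _) (center_le_centralizer _)
    (fun z hz c _ => (mem_center_iff.1 hz c).symm) hi hk h1 h2 h3

theorem cop_mul {r : ℕ} {b c : G} (h : Commute b c) (hb : (orderOf b).Coprime r)
    (hc : (orderOf c).Coprime r) : (orderOf (b * c)).Coprime r :=
  Nat.Coprime.coprime_dvd_left h.orderOf_mul_dvd_mul_orderOf (Nat.Coprime.mul_left hb hc)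

theorem one_ndvd {r : ℕ} (hr : r.Prime) : ¬ r ∣ 1 := fun h => hr.one_lt.ne' (Nat.dvd_one.1 h)

/-- hypothesis of case (b) -/
structure HypB (G : Type*) [Group G] (m n : ℕ) : Prop extends Hyp G m n where
  hb : ∀ (r : ℕ) (x : G), r.Prime → PE r x → (C x).index = m → ¬ r ∣ m
  hb' : ∀ (r : ℕ) (x : G), r.Prime → PE r x → (C x).index = n → ¬ r ∣ n

namespace HypB

variable {m n : ℕ}

theorem symm' (h : HypB G m n) : HypB G n m := ⟨h.toHyp.symm, h.hb', h.hb⟩

theorem nc (h : HypB G m n) {g : G} (hg : g ∉ center G) :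
    (C g).index = m ∨ (C g).index = n ∨ (C g).index = m * n :=
  (h.ty g).resolve_left fun h1 => hg (index_centralizer_eq_one_iff.1 h1)

theorem dvd_n (h : HypB G m n) {r : ℕ} (hr : r.Prime) {x : G} (hrx : PE r x)
    (hx : (C x).index = m) : r ∣ n := by
  by_contra hn
  have := h.central hr (h.hb r x hr hrx hx) hn hrx
  rw [← index_centralizer_eq_one_iff, hx] at this
  exact h.hm.ne' this

theorem ncent (h : HypB G m n) {x : G} (hx : (C x).index = m) : x ∉ center G := by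
  rw [← index_centralizer_eq_one_iff, hx]; exact h.hm.ne'

theorem star (h : HypB G m n) {t : ℕ} (ht : t.Prime) (htm : t ∣ m) {z : G}
    (hz : (C z).index = m * n) : NC t z := by
  by_contra hN
  have htn := h.ndvd ht htm
  have hB : ∀ g, g ∉ center G → NC t g → (C g).index = n := fun g hg hg' => by
    rcases h.nc hg with h1 | h1 | h1
    · exact absurd (hg'.tr ht (k1 := n) (k2 := 1) (by rw [h1, hz, mul_one]) htn) hN
    · exact h1
    · exact absurd (hg'.tr ht (k1 := 1) (k2 := 1) (by rw [h1, hz]) (one_ndvd ht)) hN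
  obtain ⟨q, x, hq, hqx, hx⟩ := h.ex_primary
  have hqn := h.dvd_n hq hqx hx
  obtain ⟨y, hty, hy⟩ : ∃ y : G, PE t y ∧ y ∉ center G := by
    by_contra hc
    push Not at hc
    exact not_dvd_index' ht (H := C x) (fun a ha => center_le_centralizer _ (hc a ha)) (hx ▸ htm)
  have hyn := hB y hy ⟨y, mem_C.2 rfl, hty, hy⟩
  have h1 : ∀ s, s.Prime → s ∣ n → ¬ NC s y := fun s hs hsn ⟨a, ha1, ha2, ha3⟩ =>
    h.hb' s a hs ha2 (hB a ha3 ⟨y, mem_C.2 (mem_C.1 ha1).symm, hty, hy⟩) hsn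
  have h2 : ∀ s, s.Prime → s ∣ n → ∀ g : G, (C g).index = n ∨ (C g).index = m * n → ¬ NC s g :=
    fun s hs hsn g hg hg' => by
      rcases hg with hg | hg
      · exact h1 s hs hsn (hg'.tr hs (k1 := 1) (k2 := 1) (by rw [hg, hyn]) (one_ndvd hs))
      · exact h1 s hs hsn (hg'.tr hs (k1 := 1) (k2 := m) (by rw [hg, hyn]; ring) (one_ndvd hs))
  have h3 : ∀ r, r.Prime → r ∣ m → ¬ NC r x := fun r hr hrm ⟨a, ha1, ha2, ha3⟩ =>
    h2 q hq hqn a ((h.nc ha3).resolve_left fun e => h.hb r a hr ha2 e hrm)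
      ⟨x, mem_C.2 (mem_C.1 ha1).symm, hqx, h.ncent hx⟩
  have : z ∈ center G := mem_of_parts _ fun r hr a ha hra => by
    by_contra hc
    have hN' : NC r z := ⟨a, zpowers_le.2 (mem_C.2 rfl) ha, hra, hc⟩
    by_cases hrm : r ∣ m
    · exact h3 r hr hrm (hN'.tr hr (k1 := 1) (k2 := n) (by rw [hz, hx, mul_one]) (one_ndvd hr))
    by_cases hrn : r ∣ n
    · exact h2 r hr hrn z (Or.inr hz) hN'
    exact hc (h.central hr hrm hrn hra)
  rw [← index_centralizer_eq_one_iff, hz] at this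
  have := h.hm
  have := h.hn
  nlinarith

theorem cc (h : HypB G m n) {x y g : G} (hx : (C x).index = m) (hy : (C y).index = n)
    (hc : g * x * g⁻¹ ∈ C y) : x ∈ C y := by
  obtain ⟨d, hd, c, hc', rfl⟩ := Core.exists_mul_of_coprime_index (H := C y) (K := C x)
    (by rw [hx, hy]; exact h.cop.symm) g
  have e : d * c * x * (d * c)⁻¹ = d * x * d⁻¹ := by
    rw [mul_assoc d c x, (mem_C.1 hc').eq]; group
  rw [e] at hc
  have := (C y).mul_mem ((C y).mul_mem ((C y).inv_mem hd) hc) hd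
  simpa [mul_assoc] using this

theorem cop_pq (h : HypB G m n) {p q : ℕ} (hpm : p ∣ m) (hqn : q ∣ n) : p.Coprime q :=
  Nat.Coprime.coprime_dvd_left hpm (Nat.Coprime.coprime_dvd_right hqn h.cop)

theorem index_D (h : HypB G m n) {x y : G} (hx : (C x).index = m) (hy : (C y).index = n) :
    (C x ⊓ C y).index = m * n := by
  rw [index_inf', h.toHyp.symm.rel_xy hy hx, hy]

/-- the covering argument -/
theorem skel (h : HypB G m n) {p q : ℕ} (hp : p.Prime) (hq : q.Prime) {x y : G} (hqx : PE q x)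
    (hx : (C x).index = m) (hpy : PE p y) (hy : (C y).index = n) (hxy : x ∈ C y)
    (H1 : ∀ a ∈ C x ⊓ C y, (orderOf a).Coprime p → C x ⊓ C y ≤ C a)
    (H2 : ∀ u : G, PE p u → (C u).index = n → u ∈ C x) : False := by
  have hqn := h.dvd_n hq hqx hx
  have hpm := h.symm'.dvd_n hp hpy hy
  have hqm := h.toHyp.symm.ndvd hq hqn
  have hD := h.index_D hx hy
  have key : ∀ g ∈ C y, ∃ e ∈ C y, e⁻¹ * g * e ∈ C x := by
    intro g hg
    have := Fact.mk hp
    obtain ⟨a, b, ha, hb, hgab, hab, hpa, hpb⟩ := exists_pPart p g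
    have haE : a ∈ C y := zpowers_le.2 hg ha
    have hbE : b ∈ C y := zpowers_le.2 hg hb
    rcases h.toHyp.symm.rel_m hy (mem_C.1 hbE) (hpy.cop2 hpb).symm with h1 | h1
    · rw [relIndex_eq_one] at h1
      suffices ∃ e ∈ C y, e⁻¹ * a * e ∈ C x by
        obtain ⟨e, he, he'⟩ := this
        refine ⟨e, he, ?_⟩
        have : e⁻¹ * g * e = e⁻¹ * a * e * b := by
          rw [hgab, mul_assoc _ e b, (mem_C.1 (h1 he)).eq]; group
        rw [this]
        exact (C x).mul_mem he' (mem_C.2 (mem_C.1 (h1 hxy)).symm)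
      rcases h.ty a with h2 | h2 | h2 | h2
      · exact ⟨1, one_mem _, by
          simpa using center_le_centralizer _ (index_centralizer_eq_one_iff.1 h2)⟩
      · exact absurd hpm (h.hb p a hp hpa h2)
      · exact ⟨1, one_mem _, by simpa using H2 a hpa h2⟩
      · have h3 : ¬ q ∣ (C y).relIndex (C a) := not_dvd_relIndex hq fun w hw hqw =>
          mem_C.2 (mem_C.1 (h.rel_mn h2 (mem_C.1 hw)
            (PE.cop2 hqw (PE.cop hpa (h.cop_pq hpm hqn))) (mem_C.2 (mem_C.1 haE).symm))).symm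
        have h4 : (C a).relIndex (C y) = (C y).relIndex (C a) * m := by
          apply Nat.eq_of_mul_eq_mul_right (m := n) (by have := h.hn; omega)
          rw [← hy, ← index_inf', inf_comm, index_inf', h2, hy]; ring
        obtain ⟨e, he, he'⟩ := exists_conj_mem hq (H := C a) (K := C y)
          (by rw [h4]; exact fun hd => (hq.dvd_mul.1 hd).elim h3 hqm) hxy hqx
        exact ⟨e, he, mem_C.2 (conj_comm (mem_C.1 he'))⟩
    · obtain ⟨e, he, he'⟩ := exists_conj_mem hq (H := C b) (K := C y) (by rwa [h1]) hxy hqx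
      refine ⟨e, he, ?_⟩
      have hb1 : e⁻¹ * b * e ∈ C y := (C y).mul_mem ((C y).mul_mem ((C y).inv_mem he) hbE) he
      have hb2 : e⁻¹ * b * e ∈ C x := mem_C.2 (conj_comm (mem_C.1 he'))
      have ho : orderOf (e⁻¹ * b * e) = orderOf b := by
        simpa using (MulAut.conj e⁻¹).orderOf_eq b
      have h3 := H1 _ ⟨hb2, hb1⟩ (ho ▸ hpb)
      have h4 : (C (e⁻¹ * b * e) ⊓ C y).index = m * n := by
        rw [index_inf', hy]
        rcases h.toHyp.symm.rel_m hy (mem_C.1 hb1) (hpy.cop2 (ho ▸ hpb)).symm with h5 | h5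
        · exfalso
          rw [relIndex_eq_one] at h5
          have h6 : e⁻¹ * b * e⁻¹⁻¹ = b := conj_fix (by
            rw [inv_inv]; exact (mem_C.1 (h5 ((C y).inv_mem he))).symm)
          rw [inv_inv] at h6
          rw [h6, ← relIndex_eq_one, h1] at h5
          exact h.hm.ne' h5
        · rw [h5]
      refine (le_of_index (le_inf h3 inf_le_right) (hD.trans h4.symm) ⟨?_, ?_⟩).1
      · have hgb : Commute g b := by rw [hgab]; exact hab.mul_left rfl
        refine mem_C.2 ?_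
        simpa using hgb.map (MulAut.conj e⁻¹)
      · exact (C y).mul_mem ((C y).mul_mem ((C y).inv_mem he) hg) he
  have h5 : (C x).subgroupOf (C y) = ⊤ := eq_top_of_forall_conj_mem _ fun g => by
    obtain ⟨e, he, he'⟩ := key g g.2
    exact ⟨⟨e, he⟩⁻¹, by simpa [mem_subgroupOf] using he'⟩
  rw [subgroupOf_eq_top, ← relIndex_eq_one, h.toHyp.symm.rel_xy hy hx] at h5
  exact h.hm.ne' h5

theorem multi_comm (h : HypB G m n) {p q t : ℕ} (hp : p.Prime) (hq : q.Prime) (ht : t.Prime)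
    (htm : t ∣ m) (htp : t ≠ p) {x y : G} (hqx : PE q x)
    (hx : (C x).index = m) (hpy : PE p y) (hy : (C y).index = n) : x ∈ C y := by
  have hqn := h.dvd_n hq hqx hx
  have hqm := h.toHyp.symm.ndvd hq hqn
  obtain ⟨z, hz⟩ := h.exmn
  obtain ⟨a, ha1, ha2, ha3⟩ := (h.star ht htm hz).tr ht (g' := x) (k1 := 1) (k2 := n)
    (by rw [hz, hx, mul_one]) (one_ndvd ht)
  obtain ⟨c, hc, hc'⟩ := exists_conj_mem ht (H := C y) (K := C x)
    (by rw [h.rel_xy hx hy]; exact h.ndvd ht htm) ha1 ha2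
  have hu := ha2.conj c
  have hux : c * a * c⁻¹ ∈ C x := (C x).mul_mem ((C x).mul_mem hc ha1) ((C x).inv_mem hc)
  have hun : c * a * c⁻¹ ∉ center G := fun hh =>
    ha3 (conj_fix (mem_center_iff.1 hh c).symm ▸ hh)
  generalize c * a * c⁻¹ = u at *
  rcases h.nc hun with h1 | h1 | h1
  · exact absurd htm (h.hb t u ht hu h1)
  · rcases h.toHyp.symm.rel_m h1 (mem_C.1 hc').symm
      (hpy.cop2 (hu.cop ((Nat.coprime_primes ht hp).2 htp))) with h2 | h2
    · exact relIndex_eq_one.1 h2 (mem_C.2 (mem_C.1 hux).symm)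
    · obtain ⟨e, -, he⟩ := exists_conj_mem hq (H := C y) (K := C u) (by rwa [h2])
        (mem_C.2 (mem_C.1 hux).symm) hqx
      exact h.cc hx hy he
  · exact mem_C.2 (mem_C.1 (h.rel_mn h1 (mem_C.1 hux).symm
      (hqx.cop2 (hu.cop (h.cop_pq htm hqn))) (mem_C.2 (mem_C.1 hc').symm))).symm

theorem multi (h : HypB G m n) (hm : ∀ p : ℕ, p.Prime → ∃ t : ℕ, t.Prime ∧ t ∣ m ∧ t ≠ p) :
    False := by
  obtain ⟨q, x, hq, hqx, hx⟩ := h.ex_primary
  obtain ⟨p, y, hp, hpy, hy⟩ := h.toHyp.symm.ex_primary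
  obtain ⟨t, ht, htm, htp⟩ := hm p hp
  have hqn := h.dvd_n hq hqx hx
  have hpm := h.symm'.dvd_n hp hpy hy
  have hxy := h.multi_comm hp hq ht htm htp hqx hx hpy hy
  have hD := h.index_D hx hy
  have hpq := h.cop_pq hpm hqn
  have htq := h.cop_pq htm hqn
  have htp' := (Nat.coprime_primes ht hp).2 htp
  have eD : C (x * y) = C x ⊓ C y :=
    centralizer_mul_of_coprime (mem_C.1 hxy) (hqx.cop2 (hpy.cop hpq))
  have cen : ∀ r a, PE r a → q.Coprime r → p.Coprime r → a ∈ C x ⊓ C y → C x ⊓ C y ≤ C a :=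
    fun r a hra h1 h2 ha => by
      rw [← eD] at ha ⊢
      exact h.rel_mn (eD ▸ hD) (mem_C.1 ha)
        (hra.cop2 (cop_mul (mem_C.1 hxy) (hqx.cop h1) (hpy.cop h2)))
  have ncE : ∀ g ∈ C y, PE t g → g ∉ C y ⊓ centralizer (C y : Set G) →
      (C g ⊓ C y).index = m * n := fun g hg htg hn => by
    rw [index_inf', hy]
    rcases h.toHyp.symm.rel_m hy (mem_C.1 hg) (htg.cop2 (hpy.cop htp'.symm)) with h1 | h1
    · exact absurd ⟨hg, fun c hc => (mem_C.1 (relIndex_eq_one.1 h1 hc)).eq⟩ hn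
    · rw [h1]
  obtain ⟨g, hg, htg, hgZ⟩ : ∃ g ∈ C y, PE t g ∧ g ∉ C y ⊓ centralizer (C y : Set G) := by
    by_contra hc
    push Not at hc
    refine not_dvd_relIndex ht (H := C x) (K := C y) (fun a ha hta => ?_)
      (by rw [h.toHyp.symm.rel_xy hy hx]; exact htm)
    exact mem_C.2 ((hc a ha hta).2 x hxy).symm
  obtain ⟨u, hu, htu, huZ⟩ := transfer ht (Z0 := C y ⊓ centralizer (C y : Set G))
    (K1 := C g ⊓ C y) (K2 := C x ⊓ C y) (k1 := 1) (k2 := 1)
    (fun z hz => ⟨mem_C.2 (hz.2 g hg).symm, hz.1⟩) (fun z hz => ⟨mem_C.2 (hz.2 x hxy).symm, hz.1⟩)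
    (fun z hz c hc => (hz.2 c hc.2).symm) (by rw [ncE g hg htg hgZ, hD]) (one_ndvd ht)
    ⟨mem_C.2 rfl, hg⟩ htg hgZ
  have eU : C (u * y) = C u ⊓ C y :=
    centralizer_mul_of_coprime (mem_C.1 hu.2) (htu.cop2 (hpy.cop htp'.symm))
  have hle : C x ⊓ C y ≤ C u ⊓ C y := le_inf (cen t u htu htq.symm htp'.symm hu) inf_le_right
  refine h.skel hp hq hqx hx hpy hy hxy (fun a ha hpa d hd => ?_) fun v hv hvn => ?_
  · refine mem_C.2 (mem_C.1 (mem_of_parts (C d) fun r hr b hb hrb => ?_)).symm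
    have hbD : b ∈ C x ⊓ C y := zpowers_le.2 ha hb
    refine mem_C.2 (mem_C.1 ?_).symm
    by_cases hrp : r = p
    · have h1 : orderOf b = 1 := by
        obtain ⟨k, hk⟩ := hrb
        refine Nat.eq_one_of_dvd_coprimes (hpa.pow_right k) (orderOf_dvd_of_mem_zpowers hb) ?_
        rw [hk, hrp]
      rw [orderOf_eq_one_iff.1 h1]; exact mem_C.2 (Commute.one_right d)
    have hpr := (Nat.coprime_primes hp hr).2 (Ne.symm hrp)
    by_cases hrq : r = q
    · subst hrq
      refine h.rel_mn (z := u * y) (eU ▸ ncE u hu.2 htu huZ) (mem_C.1 (eU ▸ hle hbD))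
        (hrb.cop2 (cop_mul (mem_C.1 hu.2) (htu.cop htq) (hpy.cop hpr))) (eU ▸ hle hd)
    · exact cen r b hrb ((Nat.coprime_primes hq hr).2 (Ne.symm hrq)) hpr hbD hd
  · exact mem_C.2 (mem_C.1 (h.multi_comm hp hq ht htm htp hqx hx hv hvn)).symm

end HypB

end Cfsg.Agent.Cam4
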