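import Mathlib
import Cfsg.Agent.Cam4.B
import Cfsg.Agent.Core.Cores
import Cfsg.Agent.S4034
import Cfsg.Agent.S4125

/-! Class sizes `1, m, n, mn`: the case (b) with prime powers. -/

set_option autoImplicit false
set_option linter.unusedSectionVars false

namespace Cfsg.Agent.Cam4

open Subgroup Cfsg.Agent.FGS

variable {G : Type*} [Group G] [Finite G]

theorem abel {p q : ℕ} (hp : p.Prime) (hq : q.Prime) (hpq : p ≠ q)
    (h : ∀ x : G, (orderOf x).Coprime q → ∃ k, (C x).index = q ^ k) {U : Subgroup G}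
    (hU : IsPGroup p U) {a b : G} (ha : a ∈ U) (hb : b ∈ U) : Commute a b := by
  have := Fact.mk hp
  obtain ⟨H, h1, -, k, hk⟩ := (S4034.result (G := G) hq).1 fun x hx => by rw [ncard_carrier]; exact h x hx
  obtain ⟨P, hP⟩ := exists_sylow_le_of_not_dvd_index (p := p) (H := H) (by
    rw [hk]; exact fun hd => hpq ((Nat.prime_dvd_prime_iff_eq hp hq).1 (hp.dvd_of_dvd_pow hd)))
  obtain ⟨Q, hQ⟩ := hU.exists_le_sylow
  have h2 : IsMulCommutative P := isMulCommutative_iff_forall.2 fun a ha b hb =>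
    isMulCommutative_iff_forall.1 h1 a (hP ha) b (hP hb)
  exact isMulCommutative_iff_forall.1 (isMulCommutative_sylow P Q h2) a (hQ ha) b (hQ hb)

theorem cop_comm {w v c : G} (h : w * v * w⁻¹ = v * c) (hc : Commute c w)
    (ho : (orderOf c).Coprime (orderOf w)) : c = 1 := by
  have key : ∀ k : ℕ, w ^ k * v * (w ^ k)⁻¹ = v * c ^ k := by
    intro k
    induction k with
    | zero => simp
    | succ k ih =>
      have e : w * c ^ k * w⁻¹ = c ^ k := by rw [← (hc.pow_left k).eq, mul_inv_cancel_right]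
      calc w ^ (k + 1) * v * (w ^ (k + 1))⁻¹ = w * (w ^ k * v * (w ^ k)⁻¹) * w⁻¹ := by
            rw [pow_succ']; group
        _ = w * v * w⁻¹ * (w * c ^ k * w⁻¹) := by rw [ih]; group
        _ = v * c ^ (k + 1) := by rw [h, e, pow_succ']; group
  have h1 := key (orderOf w)
  rw [pow_orderOf_eq_one] at h1
  have h2 : c ^ orderOf w = 1 := by simpa using h1.symm
  exact orderOf_eq_one_iff.1
    (Nat.eq_one_of_dvd_coprimes ho dvd_rfl (orderOf_dvd_of_pow_eq_one h2))

theorem eq_one_of_pq {p q : ℕ} (hpq : p.Coprime q) {v w : G} (hv : PE p v) (hw : PE q w)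
    (hvw : PE q (v * w)) (hc : Commute v w) : v = 1 := by
  have h1 : (orderOf (v * w * w⁻¹)).Coprime p :=
    cop_mul (hc.mul_left rfl).inv_right (hvw.cop hpq.symm) (by rw [orderOf_inv]; exact hw.cop hpq.symm)
  rw [mul_inv_cancel_right] at h1
  obtain ⟨k, hk⟩ := hv
  exact orderOf_eq_one_iff.1 (Nat.eq_one_of_dvd_coprimes (h1.pow_right k) dvd_rfl (by rw [hk]))

namespace HypB

variable {m n : ℕ}

theorem B1 (h : HypB G m n) {p q b : ℕ} (hp : p.Prime) (hq : q.Prime) (hpm : ∀ r, r.Prime → r ∣ m → r = p)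
    (hn : n = q ^ b) {x u : G} (hqx : PE q x) (hx : (C x).index = m) (hpu : PE p u)
    (hu : (C u).index = m * n) (hux : u ∈ C x) : False := by
  obtain ⟨p', y, hp', hpy, hy⟩ := h.toHyp.symm.ex_primary
  have hqn := h.dvd_n hq hqx hx
  have hpm' := h.symm'.dvd_n hp' hpy hy
  obtain rfl := hpm p' hp' hpm'
  have hpq := h.cop_pq hpm' hqn
  have aux : ∀ v : G, (C v).index = n → ∃ u', PE p' u' ∧ (C u').index = m * n ∧ C u' ≤ C x ∧
      v ∈ C u' := fun v hv => by
    obtain ⟨c, hc, hc'⟩ := exists_conj_mem hp (H := C v) (K := C x)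
      (by rw [h.rel_xy hx hv]; exact h.ndvd hp hpm') hux hpu
    have h1 : (C (c * u * c⁻¹)).index = m * n := by rw [index_centralizer_conj, hu]
    refine ⟨_, hpu.conj c, h1, h.rel_mn h1 ?_ (hqx.cop2 ((hpu.conj c).cop hpq)),
      mem_C.2 (mem_C.1 hc').symm⟩
    exact (mem_C.1 ((C x).mul_mem ((C x).mul_mem hc hux) ((C x).inv_mem hc))).symm
  obtain ⟨u', hpu', hu', hle, hyu⟩ := aux y hy
  have := Fact.mk hp
  obtain ⟨P⟩ : Nonempty (Sylow p' (C u')) := inferInstance
  have hP : (P : Subgroup (C u')).Normal := (S4035.result (fun a ha => by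
    rw [ncard_carrier, index_centralizer_subgroup, relIndex_eq_one.2 (h.rel_mn hu' (mem_C.1 a.2)
      (hpu'.cop2 (by rwa [Subgroup.orderOf_coe])).symm)]
    exact one_ndvd hp) P).1
  have hle' : C u' ≤ C y := fun g hg => mem_of_parts _ fun r hr a ha hra => by
    have ha' : a ∈ C u' := zpowers_le.2 hg ha
    by_cases hrp : r = p'
    · subst hrp
      obtain ⟨k, hk⟩ := (PE.coe (a := ⟨a, ha'⟩)).1 hra
      obtain ⟨j, hj⟩ := (PE.coe (a := ⟨y, hyu⟩)).1 hpy
      have h1 := abel (G := C x) hp hq ((Nat.coprime_primes hp hq).1 hpq) (fun w hw => by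
          rw [index_centralizer_subgroup]
          rcases h.rel_m hx (mem_C.1 w.2) (hqx.cop2 (by rwa [Subgroup.orderOf_coe])).symm with e | e
          · exact ⟨0, by rw [e, pow_zero]⟩
          · exact ⟨b, by rw [e, hn]⟩)
        (P.isPGroup'.map (inclusion hle)) (mem_map_of_mem _ (mem_sylow_of_normal P hk))
        (mem_map_of_mem _ (mem_sylow_of_normal P hj))
      exact mem_C.2 (h1.map (C x).subtype)
    · exact mem_C.2 (mem_C.1 (h.rel_mn hu' (mem_C.1 ha')
        (hra.cop2 (hpu'.cop ((Nat.coprime_primes hp hr).2 (Ne.symm hrp)))) hyu)).symm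
  have hD : C x ⊓ C y ≤ C u' := le_of_index (le_inf hle hle') (hu'.trans (h.index_D hx hy).symm)
  refine h.skel hp hq hqx hx hpy hy (mem_C.2 (mem_C.1 (hle hyu)).symm) (fun a ha hpa => ?_)
    fun v _ hv => ?_
  · exact hD.trans (h.rel_mn hu' (mem_C.1 (hD ha)) (hpu'.cop2 hpa).symm)
  · obtain ⟨u'', -, -, h1, h2⟩ := aux v hv
    exact h1 h2

theorem B3 (h : HypB G m n) {p q a b : ℕ} (hp : p.Prime) (hq : q.Prime) (hm : m = p ^ a)
    (hn : n = q ^ b) {u : G} (hpu : PE p u) (hu : u ∉ center G) : (C u).index = n := by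
  have hpm : ∀ r, r.Prime → r ∣ m → r = p := fun r hr hd =>
    (Nat.prime_dvd_prime_iff_eq hr hp).1 (hr.dvd_of_dvd_pow (hm ▸ hd))
  have hqn : ∀ r, r.Prime → r ∣ n → r = q := fun r hr hd =>
    (Nat.prime_dvd_prime_iff_eq hr hq).1 (hr.dvd_of_dvd_pow (hn ▸ hd))
  obtain ⟨p', y, hp', hpy, hy⟩ := h.toHyp.symm.ex_primary
  have hpm' := h.symm'.dvd_n hp' hpy hy
  obtain rfl := hpm p' hp' hpm'
  obtain ⟨q', x, hq', hqx, hx⟩ := h.ex_primary
  have hqn' := h.dvd_n hq' hqx hx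
  obtain rfl := hqn q' hq' hqn'
  rcases h.nc hu with h1 | h1 | h1
  · exact absurd hpm' (h.hb _ u hp hpu h1)
  · exact h1
  exfalso
  obtain ⟨c, -, hc⟩ := exists_conj_mem hp (H := C y) (K := ⊤)
    (by rw [relIndex_top_right, hy]; exact h.ndvd hp hpm') (mem_top u) hpu
  have h2 : (C (c * u * c⁻¹)).index = m * n := by rw [index_centralizer_conj, h1]
  have h3 := hpu.conj c
  generalize c * u * c⁻¹ = u' at *
  obtain ⟨w, hw1, hw2, hw3⟩ := h.symm'.star hq hqn' (z := u') (by rw [h2, mul_comm])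
  have h4 := h.rel_mn h2 (mem_C.1 hw1) (hw2.cop2 (h3.cop (h.cop_pq hpm' hqn')))
  rcases h.nc hw3 with h5 | h5 | h5
  · exact h.B1 hp hq hpm hn hw2 h5 h3 h2 (mem_C.2 (mem_C.1 hw1).symm)
  · exact h.hb' _ w hq hw2 h5 hqn'
  · exact h.symm'.B1 hq hp hqn hm hpy hy hw2 (by rw [h5, mul_comm])
      (mem_C.2 (mem_C.1 (h4 (mem_C.2 (mem_C.1 hc).symm))).symm)

end HypB

end Cfsg.Agent.Cam4
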