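import Mathlib
import Cfsg.Agent.Cam4.C

/-! Class sizes `1, m, n, mn`: the final case with abelian Sylow subgroups. -/

set_option autoImplicit false
set_option linter.unusedSectionVars false

namespace Cfsg.Agent.Cam4

open Subgroup Cfsg.Agent.FGS

variable {G : Type*} [Group G] [Finite G]

/-- the data of the last case -/
structure HypF (G : Type*) [Group G] (m n p q : ℕ) : Prop extends HypB G m n where
  hp : p.Prime
  hq : q.Prime
  em : ∃ a, m = p ^ a
  en : ∃ b, n = q ^ b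

namespace HypF

variable {m n p q : ℕ}

theorem symm'' (h : HypF G m n p q) : HypF G n m q p := ⟨h.toHypB.symm', h.hq, h.hp, h.en, h.em⟩

theorem pm (h : HypF G m n p q) : p ∣ m := by
  obtain ⟨a, ha⟩ := h.em
  have := h.hm
  rw [ha] at this ⊢
  exact dvd_pow_self p (by rintro rfl; simp at this)

theorem pq (h : HypF G m n p q) : p.Coprime q := h.cop_pq h.pm h.symm''.pm

theorem ne (h : HypF G m n p q) : p ≠ q := (Nat.coprime_primes h.hp h.hq).1 h.pq

theorem ixp (h : HypF G m n p q) {u : G} (hpu : PE p u) (hu : u ∉ center G) : (C u).index = n := by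
  obtain ⟨a, ha⟩ := h.em
  obtain ⟨b, hb⟩ := h.en
  exact h.B3 h.hp h.hq ha hb hpu hu

theorem baer (h : HypF G m n p q) (Q : Sylow q G) :
    IsMulCommutative (Q : Subgroup G) ∧ (pCore p G ⊔ (Q : Subgroup G)).Normal := by
  have := Fact.mk h.hq
  obtain ⟨a, ha⟩ := h.em
  obtain ⟨y, hy⟩ := h.exn
  obtain ⟨-, r, hr, h1, -, h2⟩ := S4125.result (G := G) q
    ((hy ▸ h.symm''.pm : q ∣ (C y).index).trans (index_dvd_card _)) (fun x hx => by
      by_cases hc : x ∈ center G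
      · exact ⟨p, 0, h.hp, by rw [pow_zero]; exact index_centralizer_eq_one_iff.2 hc⟩
      · exact ⟨p, a, h.hp, ha ▸ h.symm''.ixp hx hc⟩) Q
  obtain ⟨q', x, hq', hqx, hx⟩ := h.ex_primary
  obtain ⟨b, hb⟩ := h.en
  obtain rfl := (Nat.prime_dvd_prime_iff_eq hq' h.hq).1
    (hq'.dvd_of_dvd_pow (hb ▸ h.dvd_n hq' hqx hx))
  obtain ⟨k, hk⟩ := h1 x hqx
  have hpr : p = r := (Nat.prime_dvd_prime_iff_eq h.hp hr).1
    (h.hp.dvd_of_dvd_pow (hk ▸ hx ▸ h.pm : p ∣ r ^ k))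
  subst hpr
  exact ⟨(h2 h.ne).1, (h2 h.ne).2.1⟩

theorem V_comm (h : HypF G m n p q) {a b : G} (ha : a ∈ pCore p G) (hb : b ∈ pCore p G) :
    Commute a b := by
  obtain ⟨P⟩ : Nonempty (Sylow p G) := inferInstance
  exact isMulCommutative_iff_forall.1 (h.symm''.baer P).1 a (Core.pCore_le_sylow P ha) b
    (Core.pCore_le_sylow P hb)

theorem V_pe (h : HypF G m n p q) {a : G} (ha : a ∈ pCore p G) : PE p a := by
  have := Fact.mk h.hp
  exact PE.of_mem (Core.pCore_isPGroup p) ha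

theorem rel_Q (h : HypF G m n p q) (Q : Sylow q G) {v : G} (hv : (C v).index = n) :
    (C v).relIndex Q = n := by
  have := Fact.mk h.hq
  obtain ⟨b, hb⟩ := h.en
  rw [relIndex_eq_of_coprime, hv]
  rw [hv, hb]
  exact ((Nat.Prime.coprime_iff_not_dvd h.hq).2 Q.not_dvd_index).pow_left b

theorem B4a (h : HypF G m n p q) (Q : Sylow q G) {v1 v2 w : G} (h1 : v1 ∈ pCore p G)
    (h1' : v1 ∉ center G) (h2 : v2 ∈ pCore p G) (hw : w ∈ (Q : Subgroup G)) (hc : Commute w v1) :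
    Commute w v2 := by
  have := Fact.mk h.hq
  have hqw : PE q w := PE.of_mem Q.isPGroup' hw
  have hd : ∀ v ∈ pCore p G, v⁻¹ * (w * v * w⁻¹) ∈ pCore p G := fun v hv =>
    mul_mem (inv_mem hv) ((pCore_normal p G).conj_mem v hv w)
  have hz : ∀ v ∈ pCore p G, Commute (v⁻¹ * (w * v * w⁻¹)) w → Commute w v := fun v hv hh => by
    have := cop_comm (w := w) (v := v) (by group) hh
      ((h.V_pe (hd v hv)).cop2 (hqw.cop h.pq.symm))
    rw [inv_mul_eq_one, eq_mul_inv_iff_mul_eq] at this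
    exact this.symm
  have hS : ∀ v ∈ pCore p G, v ∉ center G → (C v ⊓ Q).index = n * (Q : Subgroup G).index :=
    fun v hv hv' => by rw [index_inf', h.rel_Q Q (h.ixp (h.V_pe hv) hv')]
  have hle : ∀ v, C v ⊓ Q ≤ C (v⁻¹ * (w * v * w⁻¹)) ⊓ Q := fun v a ha => by
    have e1 : Commute a v := mem_C.1 ha.1
    have e2 : Commute a w := isMulCommutative_iff_forall.1 (h.baer Q).1 a ha.2 w hw
    exact ⟨mem_C.2 (e1.inv_right.mul_right ((e2.mul_right e1).mul_right e2.inv_right)), ha.2⟩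
  by_contra hn
  have h3 := hd v2 h2
  have n3 : ¬ Commute w (v2⁻¹ * (w * v2 * w⁻¹)) := fun hh => hn (hz v2 h2 hh.symm)
  generalize v2⁻¹ * (w * v2 * w⁻¹) = v3 at *
  have h4 := hd v3 h3
  have n4 : ¬ Commute w (v3⁻¹ * (w * v3 * w⁻¹)) := fun hh => n3 (hz v3 h3 hh.symm)
  have n13 : ¬ Commute w (v1 * v3) := fun hh => n3 (by simpa using hc.inv_right.mul_right hh)
  have e13 : (v1 * v3)⁻¹ * (w * (v1 * v3) * w⁻¹) = v3⁻¹ * (w * v3 * w⁻¹) := by
    rw [← mul_assoc w v1, hc.eq]; group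
  have l3 := hle v3
  have l13 := hle (v1 * v3)
  rw [e13] at l13
  generalize v3⁻¹ * (w * v3 * w⁻¹) = v4 at *
  have i1 := hS v1 h1 h1'
  have i3 := hS v3 h3 fun hh => n3 (mem_center_iff.1 hh w)
  have i4 := hS v4 h4 fun hh => n4 (mem_center_iff.1 hh w)
  have i13 := hS (v1 * v3) (mul_mem h1 h3) fun hh => n13 (mem_center_iff.1 hh w)
  have l5 : C v3 ⊓ Q ≤ C v1 ⊓ Q := fun a ha => by
    have e1 : Commute a (v1 * v3) := mem_C.1 (le_of_index l13 (i13.trans i4.symm) (l3 ha)).1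
    have e2 : Commute a v3 := mem_C.1 ha.1
    exact ⟨mem_C.2 (by simpa using e1.mul_right e2.inv_right), ha.2⟩
  exact n3 (mem_C.1 (le_of_index l5 (i3.trans i1.symm) ⟨mem_C.2 hc, hw⟩).1)

theorem conj_mem_Q (h : HypF G m n p q) (Q : Sylow q G) {w : G} (hw : w ∈ (Q : Subgroup G))
    (hc : ∀ v ∈ pCore p G, Commute w v) (g : G) : g * w * g⁻¹ ∈ (Q : Subgroup G) := by
  have := Fact.mk h.hq
  have hqw : PE q w := PE.of_mem Q.isPGroup' hw
  obtain ⟨v, hv, w', hw', e⟩ := mem_sup_of_normal_left.1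
    ((h.baer Q).2.conj_mem w (mem_sup_right hw) g)
  have c1 : Commute (v * w') v := by
    rw [e]
    have := hc (g⁻¹ * v * g) (by simpa using (pCore_normal p G).conj_mem v hv g⁻¹)
    simpa [mul_assoc] using this.map (MulAut.conj g)
  have c2 : Commute v w' := by
    simpa using ((Commute.refl v).inv_left.mul_left c1).symm
  have := eq_one_of_pq h.pq (h.V_pe hv) (PE.of_mem Q.isPGroup' hw') (e ▸ hqw.conj g) c2
  rw [← e, this, one_mul]; exact hw'

theorem B4b (h : HypF G m n p q) (Q : Sylow q G) {v : G} (h1 : v ∈ pCore p G)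
    (h1' : v ∉ center G) : C v ⊓ Q = pCore q G := by
  have := Fact.mk h.hq
  have := Fact.mk h.hp
  refine le_antisymm (Core.le_pCore ⟨fun w hw g => ?_⟩ (Q.isPGroup'.to_le inf_le_right))
    (le_inf (fun w hw => ?_) (Core.pCore_le_sylow Q))
  · have hc : ∀ v' ∈ pCore p G, Commute w v' := fun v' hv' =>
      h.B4a Q h1 h1' hv' hw.2 (mem_C.1 hw.1)
    refine ⟨mem_C.2 ?_, h.conj_mem_Q Q hw.2 hc g⟩
    have := hc (g⁻¹ * v * g) (by simpa using (pCore_normal p G).conj_mem v h1 g⁻¹)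
    simpa [mul_assoc] using this.map (MulAut.conj g)
  · exact mem_C.2 (Core.pCore_le_centralizer_pCore h.ne.symm hw v h1).symm

theorem W_nc (h : HypF G m n p q) {v : G} (h1 : v ∈ pCore p G) (h1' : v ∉ center G) :
    ∃ w ∈ pCore q G, w ∉ center G := by
  obtain ⟨z, hz⟩ := h.exmn
  obtain ⟨w, hw1, ⟨k, hk⟩, hw3⟩ := (h.symm'.star h.hq h.symm''.pm (z := z) (by rw [hz, mul_comm])).tr
    h.hq (g' := v) (k1 := 1) (k2 := m) (by rw [hz, h.ixp (h.V_pe h1) h1']; ring) (one_ndvd h.hq)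
  obtain ⟨Q, hQ⟩ := exists_sylow_mem hk
  exact ⟨w, h.B4b Q h1 h1' ▸ ⟨hw1, hQ⟩, hw3⟩

theorem ex_nc (h : HypF G m n p q) : ∃ w ∈ pCore q G, w ∉ center G := by
  by_cases hV : ∃ v ∈ pCore p G, v ∉ center G
  · obtain ⟨v, h1, h2⟩ := hV
    exact h.W_nc h1 h2
  push Not at hV
  obtain ⟨q', x, hq', hqx, hx⟩ := h.ex_primary
  obtain ⟨b, hb⟩ := h.en
  obtain rfl := (Nat.prime_dvd_prime_iff_eq hq' h.hq).1
    (hq'.dvd_of_dvd_pow (hb ▸ h.dvd_n hq' hqx hx))
  obtain ⟨k, hk⟩ := hqx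
  obtain ⟨Q, hQ⟩ := exists_sylow_mem hk
  refine ⟨x, Core.le_pCore ⟨fun w hw g => ?_⟩ Q.isPGroup' hQ, h.ncent hx⟩
  exact h.conj_mem_Q Q hw (fun v hv => mem_center_iff.1 (hV v hv) w) g

theorem B4d (h : HypF G m n p q) {v : G} (h1 : v ∈ pCore p G) (h1' : v ∉ center G) :
    n < (center G).relIndex (pCore p G) := by
  have := Fact.mk h.hq
  obtain ⟨Q⟩ : Nonempty (Sylow q G) := inferInstance
  rw [← h.rel_Q Q (h.ixp (h.V_pe h1) h1')]
  have hm : ∀ a : G, a * v * a⁻¹ ∈ pCore p G := (pCore_normal p G).conj_mem v h1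
  let f : (Q : Subgroup G) ⧸ (C v).subgroupOf Q → pCore p G ⧸ (center G).subgroupOf (pCore p G) :=
    fun c => QuotientGroup.mk ⟨c.out * v * (c.out : G)⁻¹, hm _⟩
  have hf : Function.Injective f := fun c d hcd => by
    have e := QuotientGroup.eq.1 hcd
    rw [mem_subgroupOf] at e
    rw [← c.out_eq, ← d.out_eq]
    refine QuotientGroup.eq.2 ?_
    rw [mem_subgroupOf]
    generalize c.out = a at *
    generalize d.out = b at *
    have e' : ((a : G) * v * (a : G)⁻¹)⁻¹ * (b * v * (b : G)⁻¹) ∈ center G := e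
    have hz : ((a : G) * v * (a : G)⁻¹)⁻¹ * (b * v * (b : G)⁻¹) ∈ pCore p G :=
      mul_mem (inv_mem (hm _)) (hm _)
    generalize hzz : ((a : G) * v * (a : G)⁻¹)⁻¹ * (b * v * (b : G)⁻¹) = z at e' hz
    have hw : PE q ((a⁻¹ * b : Q) : G) := PE.of_mem Q.isPGroup' (a⁻¹ * b).2
    have e2 : ((a⁻¹ * b : Q) : G) * v * ((a⁻¹ * b : Q) : G)⁻¹ = v * z := by
      have e3 : (a : G)⁻¹ * z * a = z := by
        rw [mul_assoc, ← mem_center_iff.1 e' a]; group
      rw [← e3, ← hzz]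
      simp only [Subgroup.coe_mul, Subgroup.coe_inv]
      group
    have := cop_comm e2 (mem_center_iff.1 e' _).symm ((h.V_pe hz).cop2 (hw.cop h.pq.symm))
    rw [this, mul_one, mul_inv_eq_iff_eq_mul] at e2
    exact mem_C.2 e2
  have hs : (1 : pCore p G ⧸ (center G).subgroupOf (pCore p G)) ∉ Set.range f := by
    rintro ⟨c, hc⟩
    have e := (QuotientGroup.eq_one_iff _).1 hc
    rw [mem_subgroupOf] at e
    have e' : (c.out : G) * v * (c.out : G)⁻¹ ∈ center G := e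
    exact h1' (conj_fix (mem_center_iff.1 e' _).symm ▸ e')
  classical
  have := Fintype.ofFinite ((Q : Subgroup G) ⧸ (C v).subgroupOf Q)
  have := Fintype.ofFinite (pCore p G ⧸ (center G).subgroupOf (pCore p G))
  have := Fintype.card_lt_of_injective_of_notMem f hf hs
  simpa [relIndex, index, Nat.card_eq_fintype_card] using this

theorem lt (h : HypF G m n p q) : n < m := by
  have := Fact.mk h.hq
  have := Fact.mk h.hp
  obtain ⟨v, hv, hv'⟩ := h.symm''.ex_nc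
  obtain ⟨w, hw, hw'⟩ := h.ex_nc
  refine (h.B4d hv hv').trans_le ?_
  obtain ⟨Q⟩ : Nonempty (Sylow q G) := inferInstance
  obtain ⟨P⟩ : Nonempty (Sylow p G) := inferInstance
  obtain ⟨x, hx, hx'⟩ : ∃ x ∈ (Q : Subgroup G), x ∉ C v := by
    by_contra hc
    push Not at hc
    have := h.rel_Q Q (h.ixp (h.V_pe hv) hv')
    rw [relIndex_eq_one.2 hc] at this
    exact h.hn.ne this
  have hxm : (C x).index = m := h.symm''.ixp (PE.of_mem Q.isPGroup' hx)
    fun hh => hx' (center_le_centralizer _ hh)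
  have eV := h.symm''.B4b P hw hw'
  have iV : (pCore p G).relIndex P = m := by
    rw [← eV, inf_relIndex_right, h.symm''.rel_Q P (h.symm''.ixp (h.symm''.V_pe hw) hw')]
  have i1 : (C x ⊓ P).index = (pCore p G).index := by
    rw [index_inf', h.symm''.rel_Q P hxm, ← relIndex_mul_index (Core.pCore_le_sylow P), iV]
  have l1 : (C x ⊓ P) ⊓ pCore p G ≤ center G := fun u hu => by
    by_contra hc
    have : x ∈ C u ⊓ Q := ⟨mem_C.2 (mem_C.1 hu.1.1).symm, hx⟩
    rw [h.B4b Q hu.2 hc, ← h.B4b Q hv hv'] at this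
    exact hx' this.1
  have i2 : (C x ⊓ P).relIndex (pCore p G) = (pCore p G).relIndex (C x ⊓ P) := by
    apply Nat.eq_of_mul_eq_mul_right (Nat.pos_of_ne_zero (index_ne_zero_of_finite (H := pCore p G)))
    rw [← index_inf', inf_comm, index_inf', i1]
  calc (center G).relIndex (pCore p G) ≤ ((C x ⊓ P) ⊓ pCore p G).relIndex (pCore p G) :=
        relIndex_le_of_le_left l1 index_ne_zero_of_finite
    _ = (pCore p G).relIndex (C x ⊓ P) := by rw [inf_relIndex_right, i2]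
    _ ≤ (pCore p G).relIndex P := relIndex_le_of_le_right inf_le_right index_ne_zero_of_finite
    _ = m := iV

end HypF

theorem pow_or {m : ℕ} (hm : 1 < m) :
    (∃ p a, Nat.Prime p ∧ m = p ^ a) ∨ ∀ p : ℕ, p.Prime → ∃ t : ℕ, t.Prime ∧ t ∣ m ∧ t ≠ p := by
  by_contra hc
  push Not at hc
  obtain ⟨h1, p, hp, h2⟩ := hc
  exact h1 p _ hp (Nat.eq_prime_pow_of_unique_prime_dvd (by omega) fun {d} hd hdm => h2 d hd hdm)

theorem HypB.false {m n : ℕ} (h : HypB G m n) : False := by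
  rcases pow_or h.hm with ⟨p, a, hp, ha⟩ | h1
  · rcases pow_or h.hn with ⟨q, b, hq, hb⟩ | h2
    · have hF : HypF G m n p q := ⟨h, hp, hq, ⟨a, ha⟩, ⟨b, hb⟩⟩
      exact lt_asymm hF.lt hF.symm''.lt
    · exact h.symm'.multi h2
  · exact h.multi h1

/-- case (a): both class sizes are prime powers attained by primary elements -/
theorem Hyp.caseA' {m n : ℕ} (h : Hyp G m n) {r : ℕ} (hr : r.Prime) {x : G} (hrx : PE r x)
    (hx : (C x).index = m) (hrm : r ∣ m) :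
    ∃ (s a b : ℕ) (y : G), s.Prime ∧ PE s y ∧ (C y).index = n ∧ m = r ^ a ∧ n = s ^ b := by
  obtain ⟨s, y, hs, hsy, hy⟩ := h.symm.ex_primary
  obtain ⟨b, hb⟩ := h.caseA hr hs hrx hx hrm hsy hy
  have hsn : s ∣ n := by
    have := h.hn
    rw [hb] at this ⊢
    exact dvd_pow_self s (by rintro rfl; simp at this)
  obtain ⟨a, ha⟩ := h.symm.caseA hs hr hsy hy hsn hrx hx
  exact ⟨s, a, b, y, hs, hsy, hy, ha, hb⟩

theorem Hyp.main {m n : ℕ} (h : Hyp G m n) :
    ∃ (r s a b : ℕ) (x y : G), r.Prime ∧ s.Prime ∧ PE r x ∧ PE s y ∧ (C x).index = m ∧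
      (C y).index = n ∧ m = r ^ a ∧ n = s ^ b := by
  by_contra hc
  refine HypB.false (G := G) ⟨h, fun r x hr hrx hx hrm => hc ?_, fun r x hr hrx hx hrm => hc ?_⟩
  · obtain ⟨s, a, b, y, h1, h2, h3, h4, h5⟩ := h.caseA' hr hrx hx hrm
    exact ⟨r, s, a, b, x, y, hr, h1, hrx, h2, hx, h3, h4, h5⟩
  · obtain ⟨s, a, b, y, h1, h2, h3, h4, h5⟩ := h.symm.caseA' hr hrx hx hrm
    exact ⟨s, r, b, a, y, x, h1, hr, h2, hrx, h3, hx, h5, h4⟩

theorem Hyp.not_pow_dvd {m n r a : ℕ} (h : Hyp G m n) (hr : r.Prime) (ha : m = r ^ a) (g : G) :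
    ¬ r ^ (a + 1) ∣ (C g).index := by
  have hrm : r ∣ m := by
    have := h.hm
    rw [ha] at this ⊢
    exact dvd_pow_self r (by rintro rfl; simp at this)
  have hrn := h.ndvd hr hrm
  have key : ¬ r ^ (a + 1) ∣ m * n := fun hd => by
    rw [ha, pow_succ] at hd
    exact hrn (Nat.dvd_of_mul_dvd_mul_left (pow_pos hr.pos a) hd)
  intro hd
  apply key
  rcases h.ty g with h1 | h1 | h1 | h1 <;> rw [h1] at hd
  · exact hd.trans (one_dvd _)
  · exact hd.mul_right _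
  · exact hd.mul_left _
  · exact hd

end Cfsg.Agent.Cam4
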